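import Cfsg.Agent.Lib.Helper9.TCData.S44B0.Main

set_option autoImplicit false
set_option maxRecDepth 1000000

namespace Cfsg.Agent.Helper9.TCData.S44B0
open Cfsg.Agent.Helper9.TC2

theorem sl_0 : allRange 0 19 (fun u => chkSlp tab slp u) = true := by decide +kernel

theorem sl_1 : allRange 19 19 (fun u => chkSlp tab slp u) = true := by decide +kernel

theorem sl_2 : allRange 38 19 (fun u => chkSlp tab slp u) = true := by decide +kernel

theorem sl_3 : allRange 57 19 (fun u => chkSlp tab slp u) = true := by decide +kernel

theorem sl_4 : allRange 76 19 (fun u => chkSlp tab slp u) = true := by decide +kernel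

theorem sl_5 : allRange 95 19 (fun u => chkSlp tab slp u) = true := by decide +kernel

theorem sl_6 : allRange 114 19 (fun u => chkSlp tab slp u) = true := by decide +kernel

theorem sl_7 : allRange 133 3 (fun u => chkSlp tab slp u) = true := by decide +kernel


end Cfsg.Agent.Helper9.TCData.S44B0
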