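import Cfsg.Agent.Lib.Helper9.TC2Cox
import Cfsg.Agent.Lib.Helper9.TC2Aux
import Cfsg.Agent.Lib.Helper9.TC2BSGS
import Cfsg.Agent.Lib.Helper9.TC2Pack
import Cfsg.Agent.Lib.Helper9.TCData.S44B0.P0

set_option autoImplicit false
set_option maxRecDepth 100000

namespace Cfsg.Agent.Helper9.TCData.S44B0
open Cfsg.Agent.Helper9.TC2
/-- The rotated relators. -/
noncomputable def rotT : WT := (WT.node 10 (WT.node 5 (WT.node 2 (WT.node 1 (WT.leaf [0, 2, 0, 2]) (WT.leaf [0, 3, 0, 4])) (WT.node 3 (WT.leaf [0, 4, 0, 3]) (WT.node 4 (WT.leaf [0, 1, 0, 1, 0, 1, 2, 1, 0, 1, 0, 1, 0, 1, 0, 1, 2, 1, 0, 1]) (WT.leaf [0, 1, 0, 1, 0, 1, 0, 1, 0, 1, 0, 1, 0, 1, 0, 1, 0, 1, 0, 1])))) (WT.node 7 (WT.node 6 (WT.leaf [1, 3, 1, 3]) (WT.leaf [1, 0, 1, 0, 1, 2, 1, 0, 1, 0, 1, 0, 1, 0, 1, 2, 1, 0, 1, 0])) (WT.node 8 (WT.leaf [1, 2, 1, 2,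 1, 2]) (WT.node 9 (WT.leaf [1, 0, 1, 0, 1, 0, 1, 2, 1, 0, 1, 0, 1, 0, 1, 0, 1, 2, 1, 0]) (WT.leaf [2, 1, 2, 1, 2, 1]))))) (WT.node 15 (WT.node 12 (WT.node 11 (WT.leaf [2, 0, 2, 0]) (WT.leaf [2, 3, 2, 3, 2, 3])) (WT.node 13 (WT.leaf [2, 1, 0, 1, 0, 2, 1, 0, 1, 2, 3, 2, 1, 0, 1, 2, 0, 1, 0, 1, 2, 4, 2, 1, 0, 1, 2, 0, 1, 0, 1, 2, 3, 2, 1, 0, 1, 2, 1, 0, 1, 0, 1, 2, 1, 0, 1, 0, 3, 2, 1, 0, 1, 0, 2, 1, 0, 1, 2, 4]) (WT.node 14 (WT.leaf [3, 3, 3]) (WT.leaf [3, 2, 3, 2, 3, 2])))) (WT.node 17 (WT.node 16 (WT.leaf [3, 1, 3, 1]) (WT.leaf [3, 0, 4, 0])) (WT.node 18 (WT.leaf [3, 2, 1, 0, 1, 2, 0, 1, 0, 1, 2, 3, 2, 1, 0, 1, 2, 0, 1, 0, 1, 2, 3, 2, 1, 0, 1, 2, 0, 1, 0, 1, 2, 0, 1, 0, 1, 0, 3, 2, 1, 0, 1, 0, 2, 1, 0, 1, 2, 3, 2, 1, 0, 1, 0, 2, 1, 0, 1, 2]) (WT.node 19 (WT.leaf [4, 0, 3, 0]) (WT.leaf [1, 0, 1, 2, 0, 1, 0,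 1, 2, 3, 2, 1, 0, 1, 2, 1, 0, 1, 0, 1, 2, 1, 0, 1, 0, 3, 2, 1, 0, 1, 0, 2, 1, 0, 1, 2, 4, 2, 1, 0, 1, 0, 2, 1, 0, 1, 2, 3, 2, 1, 0, 1, 2, 0, 1, 0, 1, 2, 4, 2]))))))

/-- The sources of the rotated relators: relator and rotation. -/
def rotSrc : List (ℕ × ℕ) := [(2, 2), (12, 3), (12, 1), (10, 4), (1, 2), (13, 1), (10, 5), (5, 2), (10, 3), (5, 1), (2, 1), (14, 5), (16, 12), (11, 1), (14, 2), (13, 2), (12, 0), (15, 22), (12, 2), (16, 35)]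

/-- The relators, as words of columns. -/
def relWords : List (List ℕ) := [[0, 0], [0, 1, 0, 1, 0, 1, 0, 1, 0, 1, 0, 1, 0, 1, 0, 1, 0, 1, 0, 1], [0, 2, 0, 2], [1, 0, 1, 0, 1, 0, 1, 0, 1, 0, 1, 0, 1, 0, 1, 0, 1, 0, 1, 0], [1, 1], [1, 2, 1, 2, 1, 2], [2, 0, 2, 0], [2, 1, 2, 1, 2, 1], [2, 2], [2, 1, 0, 2, 0, 1, 2, 1], [2, 1, 0, 1, 0, 1, 0, 1, 0, 1, 2, 1, 0, 1, 0, 1, 0, 1, 0, 1], [3, 3, 3], [3, 0, 4, 0], [3, 1, 3, 1], [3, 2, 3, 2, 3, 2], [3, 2, 1, 0, 1, 0, 2, 1, 0, 1, 2, 3, 2, 1, 0, 1, 0, 2, 1, 0, 1, 2, 3, 2, 1, 0, 1, 2, 0, 1, 0, 1, 2, 3, 2, 1, 0, 1, 2, 0, 1, 0, 1, 2, 3, 2, 1, 0, 1, 2, 0, 1, 0, 1, 2, 0, 1, 0, 1, 0], [3, 2, 1, 0, 1, 0, 2, 1, 0, 1, 2, 4, 2, 1, 0, 1, 0, 2, 1, 0, 1, 2, 3, 2, 1, 0, 1, 2, 0, 1, 0, 1, 2, 4, 2, 1, 0, 1, 2, 0, 1, 0, 1, 2, 3, 2, 1, 0, 1, 2, 1, 0, 1, 0, 1, 2, 1, 0, 1, 0]]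

/-- The words checked on the permutation model. -/
def mwords : List (List ℕ) := [[0, 1, 0, 1, 0, 1, 0, 1, 0, 1, 0, 1, 0, 1, 0, 1, 0, 1, 0, 1], [0, 2, 0, 2], [1, 2, 1, 2, 1, 2], [2, 1, 0, 2, 0, 1, 2, 1], [2, 1, 0, 1, 0, 1, 0, 1, 0, 1, 2, 1, 0, 1, 0, 1, 0, 1, 0, 1], [3, 3, 3], [3, 0, 4, 0], [3, 1, 3, 1], [3, 2, 3, 2, 3, 2], [3, 2, 1, 0, 1, 0, 2, 1, 0, 1, 2, 3, 2, 1, 0, 1, 0, 2, 1, 0, 1, 2, 3, 2, 1, 0, 1, 2, 0, 1, 0, 1, 2, 3, 2, 1, 0, 1, 2, 0, 1, 0, 1, 2, 3, 2, 1, 0, 1, 2, 0, 1, 0, 1, 2, 0, 1, 0, 1, 0], [3, 2, 1, 0, 1, 0, 2, 1, 0, 1, 2, 4, 2, 1, 0, 1, 0, 2, 1, 0, 1, 2, 3, 2, 1, 0, 1, 2, 0, 1, 0, 1, 2, 4, 2, 1, 0, 1, 2, 0, 1, 0, 1, 2, 3, 2, 1, 0, 1, 2, 1, 0, 1, 0, 1, 2, 1, 0, 1, 0]]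

/-- The table. -/
noncomputable def tab : Tab where
  k := 5
  inv := fun c => (bif Nat.beq c 0 then 0 else (bif Nat.beq c 1 then 1 else (bif Nat.beq c 2 then 2 else (bif Nat.beq c 3 then 4 else (bif Nat.beq c 4 then 3 else c)))))
  N := 199
  n := 136
  Tmax := 992
  wn := 8
  mn := 0xff
  subs := [[0], [1], [2, 1, 0, 1, 4, 2, 4, 1, 0, 1, 2]]
  rot := fun i => rotT.getF i
  ent := fun c i => bget2 entT_0 1 9 18 0x3ffff 511 c i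
  cer := fun c i => bget2 cerT_0 1 10 14 0x3fff 1023 c i
  tau := fun c i => bget2 tauT_0 1 11 8 0xff 2047 c i
  lk := fun i => bget lkT_0 9 18 0x3ffff 511 i
  lc := fun i => bget lcT_0 9 21 0x1fffff 511 i
  pn := fun i => bget pnT_0 10 11 0x7ff 1023 i
  cls := fun i => bget clsT_0 11 8 0xff 2047 i
  rep := fun i => bget repT_0 11 8 0xff 2047 i

/-- The straight line program of the further columns. -/
def slp : List (ℕ × List ℕ) := [(0, [4, 3]), (0, [0, 5]), (0, [0, 4]), (0, [6, 7]), (0, [1, 4]), (0, [8, 9]), (0, [4, 2]), (0, [10, 11]), (0, [11, 5]), (0, [12, 13]), (0, [3, 11]), (0, [14, 15]), (0, [13, 2]), (0, [16, 17]), (0, [1, 15]), (0, [18, 19]), (0, [17, 1]), (0, [20, 21]), (0, [9, 0]), (0, [22, 23]), (0, [0, 4]), (0, [24, 25]), (0, [1, 23]), (0, [26, 27]), (0, [17, 7]), (0, [28, 29]), (0, [29, 11]), (0,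 [30, 31]), (0, [27, 4]), (0, [32, 33]), (0, [33, 23]), (0, [34, 35]), (0, [35, 23]), (0, [36, 37]), (0, [25, 7]), (0, [38, 39]), (0, [31, 37]), (0, [40, 41]), (0, [19, 39]), (0, [42, 43]), (0, [21, 41]), (0, [44, 45]), (0, [13, 45]), (0, [46, 47]), (0, [11, 21]), (0, [48, 49]), (0, [11, 49]), (0, [50, 51]), (0, [35, 49]), (0, [52, 53]), (0, [25, 4]), (0, [54, 55]), (0, [35, 53]), (0, [56, 57]), (0, [45, 55]), (0, [58, 59]), (0, [43, 59]), (0, [60, 61]), (0, [4, 19]), (0, [62, 63]), (0, [55, 63]), (0, [64, 65]), (0, [61, 53]), (0, [66, 67]), (0, [47, 57]), (0, [68, 69]), (0, [31, 63]), (0, [70, 71]), (0, [31, 43]), (0, [72, 73]), (0, [51, 57]), (0, [74, 75]), (0, [61, 75]), (0, [76, 77]), (0, [61, 67]), (0, [78, 79]), (0, [19, 71]), (0, [80, 81]), (0, [69, 71]), (0, [82, 83]), (0, [71, 81]), (0, [84, 85]), (0,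 [65, 73]), (0, [86, 87]), (0, [61, 87]), (0, [88, 89]), (0, [89, 31]), (0, [90, 91]), (0, [87, 51]), (0, [92, 93]), (0, [91, 93]), (0, [94, 95]), (0, [65, 51]), (0, [96, 97]), (0, [65, 95]), (0, [98, 99]), (0, [85, 97]), (0, [100, 101]), (0, [95, 31]), (0, [102, 103]), (0, [103, 91]), (0, [104, 105]), (0, [79, 77]), (0, [106, 107]), (0, [91, 99]), (0, [108, 109]), (0, [85, 31]), (0, [110, 111]), (0, [85, 83]), (0, [112, 113]), (0, [107, 79]), (0, [114, 115]), (0, [105, 83]), (0, [116, 117]), (0, [111, 79]), (0, [118, 119]), (0, [83, 91]), (0, [120, 121]), (0, [121, 79]), (0, [122, 123]), (0, [117, 123]), (0, [124, 125]), (0, [4, 2, 1, 0, 4, 2, 1, 0, 4, 126]), (1, [127]), (0, [119, 91]), (0, [126, 129]), (0, [1, 127, 1, 0, 1, 2, 3, 128, 1, 130]), (0, [79, 117]), (0, [130, 132]), (0, [131, 131, 128, 1, 127, 2,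 4, 133]), (1, [131])]

/-- The levels: base point, generating columns, size of the orbit. -/
def levs : List (ℕ × List ℕ × ℕ) := [(0, [0, 1, 2, 3, 4, 134, 131, 135], 136), (1, [0, 1, 134, 131, 135], 60), (2, [0, 134, 131, 135], 20), (3, [0, 134], 3), (4, [0], 2)]

/-- A record of the trees of the orbits. -/
noncomputable def lidx : ℕ → ℕ → ℕ := fun c i => bget2 lidxT_0 1 11 8 0xff 2047 c i

/-- A record of the trees of the orbits. -/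
noncomputable def lpar : ℕ → ℕ → ℕ := fun c i => bget2 lparT_0 1 11 8 0xff 2047 c i

/-- A record of the trees of the orbits. -/
noncomputable def lgi : ℕ → ℕ → ℕ := fun c i => bget2 lgiT_0 1 12 3 0x7 4095 c i

/-- The word of the element of prime power order. -/
def xw : List ℕ := [0, 1, 2, 3]


/-- The orbit certificate. -/
noncomputable def orb : OrbData where
  lab := fun i => bget labT_0 13 2 0x3 8191 i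
  dep := fun i => bget depT_0 12 4 0xf 4095 i
  oj := fun i => bget ojT_0 13 2 0x3 8191 i
  root := fun i => bget rootT_0 12 3 0x7 4095 i

end Cfsg.Agent.Helper9.TCData.S44B0
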